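import Groth.Agent.FEtDesc.Fpqc
import Groth.Agent.S16030

/-! Finite sets of points of separated locally quasi-finite schemes over affines lie in affine opens. -/

universe u

open AlgebraicGeometry CategoryTheory Limits TopologicalSpace

namespace Groth.Agent.FlatMorDVR

set_option backward.isDefEq.respectTransparency false

theorem exists_affine_of_finite_quasiAffine (W : Scheme.{u}) [W.IsQuasiAffine] (F : Set W) (hF : F.Finite) :
    ∃ U : W.Opens, IsAffineOpen U ∧ F ⊆ U := by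
  obtain ⟨a, ha, haU⟩ := S16030.result Γ(W, ⊤) (W.toSpecΓ '' F) (hF.image _) W.toSpecΓ.opensRange
    (Set.image_subset_range _ _)
  refine ⟨W.toSpecΓ ⁻¹ᵁ (PrimeSpectrum.basicOpen a), ?_, fun x hx => ha ⟨x, hx, rfl⟩⟩
  rw [← Scheme.Hom.isAffineOpen_iff_of_isOpenImmersion W.toSpecΓ]
  convert! IsAffineOpen.Spec_basicOpen a
  exact SetLike.coe_injective (Set.image_preimage_eq_of_subset haU)

theorem exists_affine_of_finite_lqf {X Y : Scheme.{u}} (f : X ⟶ Y) [IsAffine Y] [IsSeparated f]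
    [LocallyQuasiFinite f] [LocallyOfFiniteType f] (T : Finset ↑X) :
    ∃ U : X.Opens, IsAffineOpen U ∧ ∀ x ∈ T, x ∈ U := by
  classical
  choose A hA hxA using fun x : X => (show ∃ U : X.Opens, IsAffineOpen U ∧ x ∈ U by
    obtain ⟨U, hU, hx, -⟩ := exists_isAffineOpen_mem_and_subset (x := x) (U := ⊤) trivial
    exact ⟨U, hU, hx⟩)
  let W : X.Opens := ⨆ x ∈ T, A x
  haveI : CompactSpace (W : Scheme.{u}) := isCompact_iff_compactSpace.mp (by
    show IsCompact (W : Set X)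
    rw [show (W : Set X) = ⋃ x ∈ T, (A x : Set X) by simp [W]]
    exact T.isCompact_biUnion fun x _ => (hA x).isCompact)
  haveI : QuasiCompact (W.ι ≫ f) := (quasiCompact_iff_compactSpace _).mpr inferInstance
  haveI : LocallyQuasiFinite (W.ι ≫ f) := inferInstance
  obtain ⟨-, hq⟩ := FEtDesc.isQuasiAffine_of_lqf (W.ι ≫ f)
  haveI := hq ⊤ (isAffineOpen_top Y)
  haveI : (W : Scheme.{u}).IsQuasiAffine :=
    Scheme.IsQuasiAffine.of_isImmersion (Y := (((W.ι ≫ f) ⁻¹ᵁ ⊤ : (W : Scheme.{u}).Opens) : Scheme.{u}))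
      (Scheme.topIso (W : Scheme.{u})).inv
  obtain ⟨U, hU, hFU⟩ := exists_affine_of_finite_quasiAffine (W : Scheme.{u}) (W.ι ⁻¹' (T : Set X))
    (T.finite_toSet.preimage W.ι.isOpenEmbedding.injective.injOn)
  refine ⟨W.ι ''ᵁ U, hU.image_of_isOpenImmersion _, fun x hx => ?_⟩
  have hxW : x ∈ W := Opens.mem_iSup.mpr ⟨x, Opens.mem_iSup.mpr ⟨hx, hxA x⟩⟩
  exact ⟨⟨x, hxW⟩, hFU hx, rfl⟩

end Groth.Agent.FlatMorDVR
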