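import Groth.Agent.FlatMorDVR.Connected

/-! Reducedness of proper flat schemes over a DVR with reduced closed fibre. -/

universe u

open AlgebraicGeometry CategoryTheory Limits TopologicalSpace
open scoped TensorProduct

namespace Groth.Agent.FlatMorDVR

set_option backward.isDefEq.respectTransparency false

section algebra

variable {C : Type u} [CommRing C] [IsNoetherianRing C] {p : C}

theorem nilpotent_mem_pow (hreg : IsLeftRegular p) (hred : (Ideal.span {p}).IsRadical) :
    ∀ (n : ℕ) (a : C), IsNilpotent a → a ∈ Ideal.span {p} ^ n := by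
  intro n
  induction n with
  | zero => intro a _; simp
  | succ n ih =>
    intro a ha
    obtain ⟨k, hk⟩ := ha
    obtain ⟨b, hb⟩ := Ideal.mem_span_singleton'.mp (hred ⟨k, by rw [hk]; exact zero_mem _⟩)
    have hbn : IsNilpotent b := by
      refine ⟨k, (hreg.pow k) ?_⟩
      show p ^ k * b ^ k = p ^ k * 0
      rw [mul_zero, ← mul_pow, mul_comm, hb, hk]
    rw [← hb, pow_succ]
    exact Ideal.mul_mem_mul (ih b hbn) (Ideal.mem_span_singleton_self p)

theorem isReduced_localization (hreg : IsLeftRegular p) (hred : (Ideal.span {p}).IsRadical)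
    (q q₀ : Ideal C) [q.IsPrime] [q₀.IsPrime] (hle : q ≤ q₀) (hp : p ∈ q₀)
    (L : Type u) [CommRing L] [Algebra C L] [IsLocalization.AtPrime L q] : _root_.IsReduced L := by
  refine ⟨fun z hz => ?_⟩
  obtain ⟨k, hk⟩ := hz
  obtain ⟨⟨a, s⟩, hs⟩ := IsLocalization.surj q.primeCompl z
  dsimp only at hs
  have : algebraMap C L (a ^ (k + 1)) = 0 := by
    rw [map_pow, ← hs, mul_pow, pow_succ, hk, zero_mul, zero_mul]
  obtain ⟨t, ht⟩ := (IsLocalization.map_eq_zero_iff q.primeCompl L _).mp this
  have hn : IsNilpotent ((t : C) * a) := ⟨k + 1, by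
    rw [mul_pow, pow_succ, mul_assoc, ht, mul_zero]⟩
  have hmem : (t : C) * a ∈ (⨅ i : ℕ, Ideal.span {p} ^ i • ⊤ : Submodule C C) := by
    rw [Submodule.mem_iInf]
    intro i
    rw [smul_eq_mul, Ideal.mul_top]
    exact nilpotent_mem_pow hreg hred i _ hn
  obtain ⟨⟨r, hr⟩, hr'⟩ := (Ideal.mem_iInf_smul_pow_eq_bot_iff (M := C) _ _).mp hmem
  have h1 : (1 - r) * t ∈ q.primeCompl := by
    refine mul_mem (fun h => ?_) t.2
    have hr0 : r ∈ q₀ := (Ideal.span_singleton_le_iff_mem _ |>.mpr hp) hr
    exact (inferInstance : q₀.IsPrime).ne_top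
      (Ideal.eq_top_of_isUnit_mem _ (add_mem (hle h) hr0) (by simp))
  have h2 : algebraMap C L a = 0 :=
    (IsLocalization.map_eq_zero_iff q.primeCompl L _).mpr ⟨⟨_, h1⟩, by
      show (1 - r) * (t : C) * a = 0
      rw [smul_eq_mul] at hr'
      linear_combination -hr'⟩
  have hu := IsLocalization.map_units L s
  exact hu.mul_left_eq_zero.mp (hs.trans h2)

end algebra

variable {R : Type u} [CommRing R] [IsDomain R] [IsDiscreteValuationRing R]
variable {X : Scheme.{u}} (f : X ⟶ Spec (CommRingCat.of R))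

theorem exists_piece_element [Flat f] (hred : IsReduced (f.fiber (IsLocalRing.closedPoint R)))
    {U : X.Opens} (hU : IsAffineOpen U) :
    ∃ p : Γ(X, U), IsLeftRegular p ∧ (Ideal.span {p}).IsRadical ∧
      ∀ q : PrimeSpectrum Γ(X, U), f (hU.fromSpec q) = IsLocalRing.closedPoint R → p ∈ q.asIdeal := by
  obtain ⟨π, hπ⟩ := IsDiscreteValuationRing.exists_irreducible R
  let j := hU.fromSpec
  let g := j ≫ f
  let φ := Spec.preimage g
  have hgφ : g = Spec.map φ := (Spec.map_preimage g).symm
  letI : Algebra R Γ(X, U) := φ.hom.toAlgebra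
  have hgalg : g = Spec.map (CommRingCat.ofHom (algebraMap R Γ(X, U))) := hgφ
  have hflat : Module.Flat R Γ(X, U) := by
    haveI : Flat g := inferInstance
    rw [hgφ] at this
    exact (HasRingHomProperty.Spec_iff (P := @Flat)).mp this
  have hreg : IsLeftRegular (algebraMap R Γ(X, U) π) := by
    intro a b hab
    refine Module.Flat.isSMulRegular_of_nonZeroDivisors (R := R) (M := Γ(X, U)) (r := π)
      (mem_nonZeroDivisors_of_ne_zero hπ.ne_zero) ?_
    simpa [Algebra.smul_def] using hab
  haveI : _root_.IsReduced ((IsLocalRing.closedPoint R).asIdeal.ResidueField ⊗[R] Γ(X, U)) := by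
    let s := IsLocalRing.closedPoint R
    let m : (Spec.map (CommRingCat.ofHom (algebraMap R Γ(X, U)))).fiber s ⟶ f.fiber s :=
      pullback.map _ ((Spec (.of R)).fromSpecResidueField s) f
        ((Spec (.of R)).fromSpecResidueField s) j (𝟙 _) (𝟙 _)
        (by rw [← hgalg]; simp [g]) (by simp)
    haveI : IsOpenImmersion m := MorphismProperty.pullbackMap (P := @IsOpenImmersion.{u})
      (inferInstance : IsOpenImmersion j) (inferInstance : IsOpenImmersion (𝟙 _)) (by
        rw [← hgalg]) (by simp)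
    haveI := hred
    have hm' := isReduced_of_isOpenImmersion m
    haveI : IsReduced (Spec (CommRingCat.of (s.asIdeal.ResidueField ⊗[R] Γ(X, U)))) :=
      haveI : IsReduced (Arrow.leftFunc.obj (Arrow.mk
        ((Spec.map (CommRingCat.ofHom (algebraMap R Γ(X, U)))).fiberToSpecResidueField s))) := hm'
      isReduced_of_isOpenImmersion
        (Arrow.leftFunc.mapIso (Spec.fiberToSpecResidueFieldIso R Γ(X, U) s)).inv
    exact (affine_isReduced_iff _).mp this
  refine ⟨_, hreg, isRadical_span_of_isReduced_fiber hπ, fun q hq => ?_⟩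
  have h : (IsLocalRing.closedPoint R) = PrimeSpectrum.comap (algebraMap R Γ(X, U)) q := by
    rw [← hq]
    show g q = _
    rw [hgalg]
    rfl
  have hmem : π ∈ (IsLocalRing.closedPoint R).asIdeal := by
    show π ∈ IsLocalRing.maximalIdeal R
    rw [hπ.maximalIdeal_eq]
    exact Ideal.mem_span_singleton_self π
  rw [h] at hmem
  exact hmem

theorem exists_specializes_closedFibre [UniversallyClosed f] [QuasiCompact f] (x : X) :
    ∃ x₀ : X, x ⤳ x₀ ∧ f x₀ = IsLocalRing.closedPoint R := by
  haveI : CompactSpace X := QuasiCompact.compactSpace_of_compactSpace f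
  obtain ⟨x₀, hx₀, hc⟩ := (isClosed_closure (s := ({x} : Set X))).exists_closed_singleton
    ⟨x, subset_closure rfl⟩
  refine ⟨x₀, specializes_iff_mem_closure.mpr hx₀, ?_⟩
  have := f.isClosedMap _ hc
  rw [Set.image_singleton] at this
  have hmax := (PrimeSpectrum.isClosed_singleton_iff_isMaximal _).mp this
  exact PrimeSpectrum.ext (IsLocalRing.eq_maximalIdeal hmax)

theorem isReduced_of_reduced_closedFibre [IsProper f] [Flat f]
    (hred : IsReduced (f.fiber (IsLocalRing.closedPoint R))) : IsReduced X := by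
  haveI : IsLocallyNoetherian X := LocallyOfFiniteType.isLocallyNoetherian f
  refine @isReduced_of_isReduced_stalk X fun x => ?_
  obtain ⟨x₀, hx, hx₀⟩ := exists_specializes_closedFibre f x
  obtain ⟨_, ⟨U, hU, rfl⟩, hx₀U, -⟩ :=
    X.isBasis_affineOpens.exists_subset_of_mem_open (Set.mem_univ x₀) isOpen_univ
  have hxU : x ∈ U := hx.mem_open U.isOpen hx₀U
  haveI := IsLocallyNoetherian.component_noetherian (X := X) ⟨U, hU⟩
  obtain ⟨p, hreg, hrad, hp⟩ := exists_piece_element f hred hU
  let q := hU.primeIdealOf ⟨x, hxU⟩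
  let q₀ := hU.primeIdealOf ⟨x₀, hx₀U⟩
  have hle : q.asIdeal ≤ q₀.asIdeal := by
    refine (PrimeSpectrum.le_iff_specializes q q₀).mpr ?_
    rw [← hU.fromSpec.isOpenEmbedding.isInducing.specializes_iff, hU.fromSpec_primeIdealOf,
      hU.fromSpec_primeIdealOf]
    exact hx
  letI := TopCat.Presheaf.algebra_section_stalk X.presheaf (⟨x, hxU⟩ : U)
  haveI := hU.isLocalization_stalk ⟨x, hxU⟩
  exact isReduced_localization hreg hrad q.asIdeal q₀.asIdeal hle
    (hp q₀ (by rw [hU.fromSpec_primeIdealOf]; exact hx₀)) (X.presheaf.stalk x)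

theorem isOpenImmersion_fromSpecResidueField_generic :
    IsOpenImmersion ((Spec (CommRingCat.of R)).fromSpecResidueField
      (⟨⊥, Ideal.isPrime_bot⟩ : PrimeSpectrum R)) := by
  obtain ⟨π, hπ⟩ := IsDiscreteValuationRing.exists_irreducible R
  let η : PrimeSpectrum R := ⟨⊥, Ideal.isPrime_bot⟩
  haveI : IsFractionRing R η.asIdeal.ResidueField :=
    (inferInstance : IsFractionRing R (⊥ : Ideal R).ResidueField)
  have hne : ∀ {r : R}, r ≠ 0 → algebraMap R η.asIdeal.ResidueField r ≠ 0 := fun {r} hr h =>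
    hr ((map_eq_zero_iff _ (IsFractionRing.injective R _)).mp h)
  haveI : IsLocalization.Away π η.asIdeal.ResidueField := by
    refine (isLocalization_iff _ _).mpr ⟨?_, ?_, ?_⟩
    · rintro ⟨_, n, rfl⟩
      exact (isUnit_iff_ne_zero.mpr (hne (pow_ne_zero n hπ.ne_zero)))
    · intro z
      obtain ⟨⟨a, ⟨b, hb⟩⟩, hab⟩ := IsLocalization.surj (nonZeroDivisors R) z
      obtain ⟨n, u, hu⟩ := IsDiscreteValuationRing.eq_unit_mul_pow_irreducible
        (nonZeroDivisors.ne_zero hb) hπ
      refine ⟨⟨((u⁻¹ : Rˣ) : R) * a, ⟨π ^ n, n, rfl⟩⟩, ?_⟩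
      dsimp only at hab ⊢
      have hu1 : algebraMap R η.asIdeal.ResidueField ((u⁻¹ : Rˣ) : R) *
          algebraMap R η.asIdeal.ResidueField (u : R) = 1 := by
        rw [← map_mul, Units.inv_mul, map_one]
      rw [map_mul, ← hab, hu, map_mul]
      linear_combination -(z * algebraMap R η.asIdeal.ResidueField (π ^ n)) * hu1
    · intro a b h
      exact ⟨1, by rw [IsFractionRing.injective R _ h]⟩
  haveI : IsOpenImmersion (Spec.map (CommRingCat.ofHom (algebraMap R η.asIdeal.ResidueField))) :=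
    IsOpenImmersion.of_isLocalization π
  rw [← Scheme.Spec.map_residueFieldIso_inv_eq_fromSpecResidueField]
  infer_instance

theorem isReduced_generic_fiber [IsReduced X] :
    IsReduced (f.fiber (⟨⊥, Ideal.isPrime_bot⟩ : PrimeSpectrum R)) := by
  haveI := isOpenImmersion_fromSpecResidueField_generic (R := R)
  haveI : IsOpenImmersion (f.fiberι (⟨⊥, Ideal.isPrime_bot⟩ : PrimeSpectrum R)) :=
    MorphismProperty.pullback_fst _ _ this
  exact isReduced_of_isOpenImmersion (f.fiberι (⟨⊥, Ideal.isPrime_bot⟩ : PrimeSpectrum R))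

end Groth.Agent.FlatMorDVR
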