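import Groth.Agent.FlatMorDVR.Idem

/-! Connectedness of the generic fibre over a discrete valuation ring. -/

universe u

open AlgebraicGeometry CategoryTheory Limits TopologicalSpace
open scoped TensorProduct

namespace Groth.Agent.FlatMorDVR

set_option backward.isDefEq.respectTransparency false

variable {R : Type u} [CommRing R] [IsDomain R] [IsDiscreteValuationRing R]

theorem basicOpen_uniformizer {π : R} (hπ : Irreducible π) :
    (PrimeSpectrum.basicOpen π : Set (PrimeSpectrum R)) = {⟨⊥, Ideal.isPrime_bot⟩} := by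
  ext p
  constructor
  · intro hp
    by_contra hne
    have hne' : p.asIdeal ≠ ⊥ := fun h => hne (PrimeSpectrum.ext h)
    haveI := p.isPrime.isMaximal hne'
    have := IsLocalRing.eq_maximalIdeal (inferInstance : p.asIdeal.IsMaximal)
    refine hp ?_
    show π ∈ p.asIdeal
    rw [this, hπ.maximalIdeal_eq]
    exact Ideal.mem_span_singleton_self π
  · rintro rfl
    show π ∉ (⊥ : Ideal R)
    exact fun h => hπ.ne_zero (Ideal.mem_bot.mp h)

theorem isRadical_span_of_isReduced_fiber {C : Type u} [CommRing C] [Algebra R C] {π : R}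
    (hπ : Irreducible π)
    [IsReduced ((IsLocalRing.closedPoint R).asIdeal.ResidueField ⊗[R] C)] :
    (Ideal.span {algebraMap R C π}).IsRadical := by
  have hm : (IsLocalRing.closedPoint R).asIdeal = Ideal.span {π} := hπ.maximalIdeal_eq
  haveI hmax : (IsLocalRing.closedPoint R).asIdeal.IsMaximal :=
    (inferInstance : (IsLocalRing.maximalIdeal R).IsMaximal)
  let e : (R ⧸ (IsLocalRing.closedPoint R).asIdeal) ≃ₐ[R] (IsLocalRing.closedPoint R).asIdeal.ResidueField :=
    AlgEquiv.ofBijective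
      (IsScalarTower.toAlgHom R (R ⧸ (IsLocalRing.closedPoint R).asIdeal) _)
      (Ideal.bijective_algebraMap_quotient_residueField _)
  let E₁ := ((Algebra.TensorProduct.quotIdealMapEquivTensorQuot C
    (IsLocalRing.closedPoint R).asIdeal).restrictScalars R)
  let E : (C ⧸ (IsLocalRing.closedPoint R).asIdeal.map (algebraMap R C)) ≃ₐ[R]
      (IsLocalRing.closedPoint R).asIdeal.ResidueField ⊗[R] C :=
    E₁.trans ((Algebra.TensorProduct.comm R C (R ⧸ (IsLocalRing.closedPoint R).asIdeal)).trans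
      (Algebra.TensorProduct.congr e AlgEquiv.refl))
  haveI : IsReduced (C ⧸ (IsLocalRing.closedPoint R).asIdeal.map (algebraMap R C)) :=
    isReduced_of_injective E.toRingEquiv E.injective
  rw [← Ideal.isRadical_iff_quotient_reduced] at this
  rwa [hm, Ideal.map_span, Set.image_singleton] at this

variable {X : Scheme.{u}} (f : X ⟶ Spec (CommRingCat.of R))

theorem exists_separated_nhd [Flat f] (hred : IsReduced (f.fiber (IsLocalRing.closedPoint R)))
    {A B : Set X} (hA : IsOpen A) (hB : IsOpen B) (hdisj : Disjoint A B)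
    (hcov : A ∪ B = f ⁻¹' {(⟨⊥, Ideal.isPrime_bot⟩ : PrimeSpectrum R)}) (x : X) :
    ∃ V : Set X, IsOpen V ∧ x ∈ V ∧ (Disjoint V A ∨ Disjoint V B) := by
  obtain ⟨π, hπ⟩ := IsDiscreteValuationRing.exists_irreducible R
  obtain ⟨_, ⟨U, hU, rfl⟩, hxU, -⟩ :=
    X.isBasis_affineOpens.exists_subset_of_mem_open (Set.mem_univ x) isOpen_univ
  let j := hU.fromSpec
  let g := j ≫ f
  let φ := Spec.preimage g
  have hgφ : g = Spec.map φ := (Spec.map_preimage g).symm
  letI : Algebra R Γ(X, U) := φ.hom.toAlgebra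
  have hgalg : g = Spec.map (CommRingCat.ofHom (algebraMap R Γ(X, U))) := hgφ
  have hflat : Module.Flat R Γ(X, U) := by
    haveI : Flat g := inferInstance
    rw [hgφ] at this
    exact (HasRingHomProperty.Spec_iff (P := @Flat)).mp this
  have hreg : IsLeftRegular (algebraMap R Γ(X, U) π) := by
    intro a b hab
    refine Module.Flat.isSMulRegular_of_nonZeroDivisors (R := R) (M := Γ(X, U)) (r := π)
      (mem_nonZeroDivisors_of_ne_zero hπ.ne_zero) ?_
    simpa [Algebra.smul_def] using hab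
  haveI : _root_.IsReduced ((IsLocalRing.closedPoint R).asIdeal.ResidueField ⊗[R] Γ(X, U)) := by
    let s := IsLocalRing.closedPoint R
    let m : (Spec.map (CommRingCat.ofHom (algebraMap R Γ(X, U)))).fiber s ⟶ f.fiber s :=
      pullback.map _ ((Spec (.of R)).fromSpecResidueField s) f
        ((Spec (.of R)).fromSpecResidueField s) j (𝟙 _) (𝟙 _)
        (by rw [← hgalg]; simp [g]) (by simp)
    haveI : IsOpenImmersion m := MorphismProperty.pullbackMap (P := @IsOpenImmersion.{u})
      (inferInstance : IsOpenImmersion j) (inferInstance : IsOpenImmersion (𝟙 _)) (by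
        rw [← hgalg]) (by simp)
    haveI := hred
    have hm' := isReduced_of_isOpenImmersion m
    haveI : IsReduced (Spec (CommRingCat.of (s.asIdeal.ResidueField ⊗[R] Γ(X, U)))) :=
      haveI : IsReduced (Arrow.leftFunc.obj (Arrow.mk
        ((Spec.map (CommRingCat.ofHom (algebraMap R Γ(X, U)))).fiberToSpecResidueField s))) := hm'
      isReduced_of_isOpenImmersion
        (Arrow.leftFunc.mapIso (Spec.fiberToSpecResidueFieldIso R Γ(X, U) s)).inv
    exact (affine_isReduced_iff _).mp this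
  have hcov' : j ⁻¹' A ∪ j ⁻¹' B =
      (PrimeSpectrum.basicOpen (algebraMap R Γ(X, U) π) : Set (PrimeSpectrum Γ(X, U))) := by
    rw [← Set.preimage_union, hcov, ← basicOpen_uniformizer hπ, ← Set.preimage_comp]
    have : (f ∘ j : _ → _) = PrimeSpectrum.comap (algebraMap R Γ(X, U)) := by
      funext p
      show (g : _ → _) p = _
      rw [hgalg]
      rfl
    rw [this]
    rfl
  obtain ⟨c, hc, hAc, hBc⟩ := exists_idem_separating _ hreg
    (isRadical_span_of_isReduced_fiber hπ) (hA.preimage j.continuous) (hB.preimage j.continuous)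
    (hdisj.preimage j) hcov'
  obtain ⟨q, rfl⟩ : x ∈ Set.range j := by rw [hU.range_fromSpec]; exact hxU
  have hd : Disjoint (PrimeSpectrum.basicOpen c : Set (PrimeSpectrum Γ(X, U)))
      (PrimeSpectrum.basicOpen (1 - c) : Set (PrimeSpectrum Γ(X, U))) := by
    rw [Set.disjoint_iff_inter_eq_empty, ← Opens.coe_inf, ← PrimeSpectrum.basicOpen_mul,
      mul_sub, mul_one, hc.eq, sub_self, PrimeSpectrum.basicOpen_zero]
    rfl
  by_cases hq : c ∈ q.asIdeal
  · refine ⟨j '' (PrimeSpectrum.basicOpen (1 - c) : Set (PrimeSpectrum Γ(X, U))),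
      j.isOpenEmbedding.isOpenMap _ (PrimeSpectrum.basicOpen _).isOpen, ⟨q, ?_, rfl⟩, Or.inl ?_⟩
    · show 1 - c ∉ q.asIdeal
      intro h
      exact q.isPrime.ne_top (Ideal.eq_top_of_isUnit_mem _ (add_mem h hq) (by simp))
    · rw [Set.disjoint_left]
      rintro _ ⟨p, hp, rfl⟩ hpA
      exact Set.disjoint_left.mp hd (hAc hpA) hp
  · refine ⟨j '' (PrimeSpectrum.basicOpen c : Set (PrimeSpectrum Γ(X, U))),
      j.isOpenEmbedding.isOpenMap _ (PrimeSpectrum.basicOpen _).isOpen, ⟨q, hq, rfl⟩, Or.inr ?_⟩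
    rw [Set.disjoint_left]
    rintro _ ⟨p, hp, rfl⟩ hpB
    exact Set.disjoint_left.mp hd hp (hBc hpB)

theorem connectedSpace_generic_fiber [Flat f] [ConnectedSpace X]
    (hred : IsReduced (f.fiber (IsLocalRing.closedPoint R))) :
    ConnectedSpace ↑(f.fiber (⟨⊥, Ideal.isPrime_bot⟩ : PrimeSpectrum R)) := by
  obtain ⟨π, hπ⟩ := IsDiscreteValuationRing.exists_irreducible R
  let η : PrimeSpectrum R := ⟨⊥, Ideal.isPrime_bot⟩
  have hWopen : IsOpen (f ⁻¹' {η}) := by
    rw [← basicOpen_uniformizer hπ]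
    exact (PrimeSpectrum.basicOpen π).isOpen.preimage f.continuous
  have hgen : ∀ x : X, ∃ w ∈ f ⁻¹' {η}, w ⤳ x := by
    intro x
    have hs : η ⤳ f x := (PrimeSpectrum.le_iff_specializes η (f x)).mp (bot_le : (⊥ : Ideal R) ≤ _)
    obtain ⟨w, hw, hwη⟩ := (Flat.generalizingMap f) hs
    exact ⟨w, hwη, hw⟩
  have hconn : _root_.IsConnected (f ⁻¹' {η}) := by
    obtain ⟨w, hw, -⟩ := hgen (Classical.arbitrary X)
    refine ⟨⟨w, hw⟩, ?_⟩
    intro A B hA hB hsub hAne hBne
    by_contra hne
    rw [Set.not_nonempty_iff_eq_empty] at hne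
    have hdisj : Disjoint (f ⁻¹' {η} ∩ A) (f ⁻¹' {η} ∩ B) := by
      rw [Set.disjoint_iff_inter_eq_empty, ← hne]
      ext; simp; tauto
    have hcov : (f ⁻¹' {η} ∩ A) ∪ (f ⁻¹' {η} ∩ B) = f ⁻¹' {η} := by
      rw [← Set.inter_union_distrib_left, Set.inter_eq_left.mpr hsub]
    have hcl : Disjoint (closure (f ⁻¹' {η} ∩ A)) (closure (f ⁻¹' {η} ∩ B)) := by
      rw [Set.disjoint_left]
      intro x hxA hxB
      obtain ⟨V, hV, hxV, h | h⟩ := exists_separated_nhd f hred (hWopen.inter hA)
        (hWopen.inter hB) hdisj hcov x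
      · exact (mem_closure_iff.mp hxA V hV hxV).ne_empty (Set.disjoint_iff_inter_eq_empty.mp h)
      · exact (mem_closure_iff.mp hxB V hV hxV).ne_empty (Set.disjoint_iff_inter_eq_empty.mp h)
    have hun : closure (f ⁻¹' {η} ∩ A) ∪ closure (f ⁻¹' {η} ∩ B) = Set.univ := by
      rw [← closure_union, hcov, Set.eq_univ_iff_forall]
      intro x
      obtain ⟨w, hw, hwx⟩ := hgen x
      exact closure_mono (Set.singleton_subset_iff.mpr hw) hwx.mem_closure
    have hclA : IsClopen (closure (f ⁻¹' {η} ∩ A)) := by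
      refine ⟨isClosed_closure, ?_⟩
      have : closure (f ⁻¹' {η} ∩ A) = (closure (f ⁻¹' {η} ∩ B))ᶜ :=
        (IsCompl.of_eq hcl.inter_eq hun).eq_compl
      rw [this]
      exact isClosed_closure.isOpen_compl
    rcases isClopen_iff.mp hclA with h | h
    · exact hAne.ne_empty (closure_empty_iff _ |>.mp h)
    · obtain ⟨b, hb⟩ := hBne
      exact Set.disjoint_left.mp hcl (h ▸ Set.mem_univ b) (subset_closure hb)
  haveI : ConnectedSpace (f ⁻¹' {η}) := isConnected_iff_connectedSpace.mp hconn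
  exact (f.fiberHomeo η).symm.surjective.connectedSpace (f.fiberHomeo η).symm.continuous

end Groth.Agent.FlatMorDVR
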