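import Groth.Agent.VarietyLib.FiniteClosedCover

/-! Closed immersions are detected after a bijective closed base change. -/

universe u

open AlgebraicGeometry CategoryTheory Limits
open scoped TensorProduct

namespace Groth.Agent.FlatMorDVR

set_option backward.isDefEq.respectTransparency false

theorem surjective_of_surjective_mod_nil {A B : Type u} [CommRing A] [CommRing B] [Algebra A B]
    [Algebra.FiniteType A B] (J : Ideal A) (hJ : J ≤ nilradical A)
    (h : Function.Surjective (Algebra.TensorProduct.includeRight : A ⧸ J →ₐ[A] B ⊗[A] (A ⧸ J))) :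
    Function.Surjective (algebraMap A B) := by
  have hB : ∀ b : B, ∃ a : A, b - algebraMap A B a ∈ J.map (algebraMap A B) := by
    intro b
    obtain ⟨c, hc⟩ := h (b ⊗ₜ 1)
    obtain ⟨a, rfl⟩ := Ideal.Quotient.mk_surjective c
    refine ⟨a, Ideal.Quotient.eq.mp ?_⟩
    let e := Algebra.TensorProduct.quotIdealMapEquivTensorQuot B J
    apply e.injective
    have h1 : ∀ x : B, e (Ideal.Quotient.mk _ x) = x ⊗ₜ 1 := fun x => by
      have := e.commutes x
      rw [Algebra.TensorProduct.algebraMap_apply] at this
      exact this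
    rw [h1, h1, ← hc, Algebra.TensorProduct.includeRight_apply, Algebra.algebraMap_eq_smul_one,
      TensorProduct.smul_tmul, ← Algebra.algebraMap_eq_smul_one]
    rfl
  have hnil : ∀ j ∈ J.map (algebraMap A B), IsNilpotent j := by
    intro j hj
    refine mem_nilradical.mp (?_ : j ∈ nilradical B)
    refine Ideal.map_le_iff_le_comap.mpr (fun a ha => ?_) hj
    exact mem_nilradical.mpr ((mem_nilradical.mp (hJ ha)).map _)
  haveI : Algebra.IsIntegral A B := ⟨fun b => by
    obtain ⟨a, ha⟩ := hB b
    obtain ⟨n, hn⟩ := hnil _ ha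
    refine ⟨(Polynomial.X - Polynomial.C a) ^ (n + 1), (Polynomial.monic_X_sub_C a).pow _, ?_⟩
    rw [← Polynomial.aeval_def, map_pow, map_sub, Polynomial.aeval_X, Polynomial.aeval_C, pow_succ,
      hn, zero_mul]⟩
  haveI : Module.Finite A B := Algebra.IsIntegral.finite
  have hjac : J ≤ Ideal.jacobson ⊥ := hJ.trans (by
    intro a ha
    exact Ideal.mem_sInf.mpr fun {I} hI => haveI := hI.2.isPrime; nilradical_le_prime I ha)
  have hle : (⊤ : Submodule A B) ≤ LinearMap.range (Algebra.linearMap A B) ⊔ J • ⊤ := by
    intro b _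
    obtain ⟨a, ha⟩ := hB b
    rw [show b = algebraMap A B a + (b - algebraMap A B a) by ring]
    refine Submodule.add_mem_sup ⟨a, rfl⟩ ?_
    rw [Ideal.smul_top_eq_map]
    exact ha
  have := Submodule.le_of_le_smul_of_le_jacobson_bot Module.Finite.fg_top hjac hle
  intro b
  exact this (Submodule.mem_top (x := b))

theorem isClosedImmersion_of_baseChange_Spec {A : CommRingCat.{u}} {X S' X' : Scheme.{u}}
    (f : X ⟶ Spec A) [LocallyOfFiniteType f] (i : S' ⟶ Spec A) [IsClosedImmersion i] [Surjective i]
    (g' : X' ⟶ X) (f' : X' ⟶ S') (hc : IsPullback g' f' f i) [IsClosedImmersion f'] :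
    IsClosedImmersion f := by
  obtain ⟨J, e, he⟩ := IsClosedImmersion.Spec_iff.mp (inferInstance : IsClosedImmersion i)
  let q : Spec (CommRingCat.of (A ⧸ J)) ⟶ Spec A := Spec.map (CommRingCat.ofHom (Ideal.Quotient.mk J))
  haveI : IsAffine S' := IsAffine.of_isIso e.hom
  haveI : IsAffine X' := isAffine_of_isAffineHom f'
  haveI : IsClosedImmersion g' := MorphismProperty.of_isPullback (P := @IsClosedImmersion) hc.flip inferInstance
  haveI : Surjective g' := MorphismProperty.of_isPullback (P := @Surjective) hc.flip inferInstance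
  haveI : IsAffine X := Groth.Agent.VarietyLib.isAffine_of_surjective_closedImmersion g' g'.surjective
  have hJ : J ≤ nilradical A := by
    rw [nilradical_eq_sInf]
    refine le_sInf fun P hP => ?_
    obtain ⟨z, hz⟩ := i.surjective (⟨P, hP⟩ : PrimeSpectrum A)
    rw [he, Scheme.Hom.comp_apply] at hz
    let w : PrimeSpectrum (A ⧸ J) := e.hom z
    have hw : w.asIdeal.comap (Ideal.Quotient.mk J) = P := congrArg PrimeSpectrum.asIdeal hz
    rw [← hw]
    intro a ha
    rw [Ideal.mem_comap, Ideal.Quotient.eq_zero_iff_mem.mpr ha]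
    exact zero_mem _
  let B := Γ(X, ⊤)
  let φ : A ⟶ B := (Scheme.ΓSpecIso A).inv ≫ f.appTop
  letI : Algebra A B := φ.hom.toAlgebra
  have hf : f = X.isoSpec.hom ≫ Spec.map φ := by
    rw [Spec.map_comp, Scheme.isoSpec_hom, ← Scheme.toSpecΓ_naturality_assoc, toSpecΓ_SpecMap_ΓSpecIso_inv,
      Category.comp_id]
  haveI : Algebra.FiniteType A B := by
    have h1 : LocallyOfFiniteType (X.isoSpec.inv ≫ f) := inferInstance
    rw [hf, Iso.inv_hom_id_assoc] at h1
    exact (HasRingHomProperty.Spec_iff (P := @LocallyOfFiniteType)).mp h1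
  let s : Spec (CommRingCat.of B) ⟶ Spec A := Spec.map (CommRingCat.ofHom (algebraMap A B))
  have hsurj : Function.Surjective (algebraMap A B) := by
    refine surjective_of_surjective_mod_nil J hJ ?_
    have h0 : IsPullback (g' ≫ X.isoSpec.hom) (f' ≫ e.hom) s q := by
      refine hc.of_iso (Iso.refl _) X.isoSpec e (Iso.refl _) (by simp) (by simp) ?_ ?_
      · simp only [Iso.refl_hom, Category.comp_id]; exact hf
      · simp only [Iso.refl_hom, Category.comp_id]; exact he
    have h1 : IsClosedImmersion (pullback.snd s q) := by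
      rw [← h0.isoPullback_inv_snd]
      infer_instance
    have h2 : IsClosedImmersion (Spec.map (CommRingCat.ofHom
        (Algebra.TensorProduct.includeRight : A ⧸ J →ₐ[A] B ⊗[A] (A ⧸ J)).toRingHom)) := by
      rw [AlgHom.toRingHom_eq_coe, ← pullbackSpecIso_inv_snd A B (A ⧸ J)]
      haveI : IsClosedImmersion (pullback.snd (Spec.map (CommRingCat.ofHom (algebraMap A B)))
        (Spec.map (CommRingCat.ofHom (algebraMap A (A ⧸ J))))) := h1
      infer_instance
    haveI := h2
    let ψ := CommRingCat.ofHom
      (Algebra.TensorProduct.includeRight : A ⧸ J →ₐ[A] B ⊗[A] (A ⧸ J)).toRingHom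
    have h3 := (IsClosedImmersion.isAffine_surjective_of_isAffine (Spec.map ψ)).2
    intro z
    obtain ⟨x, hx⟩ := h3 ((Scheme.ΓSpecIso _).inv z)
    refine ⟨(Scheme.ΓSpecIso _).hom x, ?_⟩
    have hn := congr($(Scheme.ΓSpecIso_naturality ψ) x)
    exact (hn.symm.trans (congrArg (Scheme.ΓSpecIso _).hom hx)).trans
      (congr($((Scheme.ΓSpecIso _).inv_hom_id) z))
  haveI : IsClosedImmersion s := IsClosedImmersion.spec_of_surjective _ hsurj
  rw [hf]
  exact inferInstanceAs (IsClosedImmersion (X.isoSpec.hom ≫ s))

theorem isClosedImmersion_of_bijective_baseChange {X S S' : Scheme.{u}} (f : X ⟶ S) (i : S' ⟶ S)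
    [IsClosedImmersion i] (hi : Function.Bijective i) [LocallyOfFiniteType f]
    [IsClosedImmersion (pullback.snd f i)] : IsClosedImmersion f := by
  haveI : Surjective i := ⟨hi.2⟩
  rw [IsZariskiLocalAtTarget.iff_of_openCover (P := @IsClosedImmersion) S.affineCover]
  intro j
  let c := S.affineCover.f j
  let fj := pullback.snd f c
  let ij := pullback.snd i c
  haveI : LocallyOfFiniteType fj := MorphismProperty.pullback_snd _ _ inferInstance
  haveI : IsClosedImmersion ij := MorphismProperty.pullback_snd _ _ inferInstance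
  haveI : Surjective ij := MorphismProperty.pullback_snd _ _ inferInstance
  have big : IsPullback (pullback.fst fj ij ≫ pullback.fst f c) (pullback.snd fj ij) f
      (pullback.fst i c ≫ i) := by
    rw [pullback.condition]
    exact (IsPullback.of_hasPullback fj ij).paste_horiz (IsPullback.of_hasPullback f c)
  let m : pullback fj ij ⟶ pullback f i :=
    pullback.lift (pullback.fst fj ij ≫ pullback.fst f c) (pullback.snd fj ij ≫ pullback.fst i c)
      (by rw [big.w, Category.assoc])
  have hm : IsPullback m (pullback.snd fj ij) (pullback.snd f i) (pullback.fst i c) := by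
    refine IsPullback.of_right ?_ (pullback.lift_snd _ _ _) (IsPullback.of_hasPullback f i)
    rw [pullback.lift_fst]
    exact big
  haveI : IsClosedImmersion (pullback.snd fj ij) :=
    MorphismProperty.of_isPullback (P := @IsClosedImmersion) hm inferInstance
  exact isClosedImmersion_of_baseChange_Spec fj ij _ _ (IsPullback.of_hasPullback fj ij)

end Groth.Agent.FlatMorDVR
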