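import Groth.Agent.AlgSpLib.NoethSource
import Mathlib.AlgebraicGeometry.Fiber

/-! Locally Noetherian fibres and fppf covers of the source. -/

universe u

open AlgebraicGeometry CategoryTheory Limits

namespace Groth.Agent.FlatMorDVR

set_option backward.isDefEq.respectTransparency false

theorem isLocallyNoetherian_fiber_iff {X X' Y : Scheme.{u}} (f : X ⟶ Y) (a : X' ⟶ X) [Flat a]
    [LocallyOfFinitePresentation a] [Surjective a] (y : Y) :
    IsLocallyNoetherian (f.fiber y) ↔ IsLocallyNoetherian ((a ≫ f).fiber y) := by
  let m : (a ≫ f).fiber y ⟶ f.fiber y :=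
    pullback.map (a ≫ f) (Y.fromSpecResidueField y) f (Y.fromSpecResidueField y) a (𝟙 _) (𝟙 _)
      (by simp) (by simp)
  have hm : IsPullback m ((a ≫ f).fiberι y) (f.fiberι y) a := by
    refine IsPullback.of_right ?_ (pullback.lift_fst _ _ _) (IsPullback.of_hasPullback _ _).flip
    rw [show m ≫ pullback.snd f (Y.fromSpecResidueField y) =
      pullback.snd (a ≫ f) (Y.fromSpecResidueField y) from
        (pullback.lift_snd _ _ _).trans (Category.comp_id _)]
    exact (IsPullback.of_hasPullback (a ≫ f) (Y.fromSpecResidueField y)).flip
  haveI : Flat m := MorphismProperty.of_isPullback (P := @Flat) hm.flip inferInstance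
  haveI : Surjective m := MorphismProperty.of_isPullback (P := @Surjective) hm.flip inferInstance
  haveI : LocallyOfFinitePresentation m :=
    MorphismProperty.of_isPullback (P := @LocallyOfFinitePresentation) hm.flip inferInstance
  exact ⟨fun _ => LocallyOfFiniteType.isLocallyNoetherian m,
    fun _ => AlgSpLib.isLocallyNoetherian_of_surjective m⟩

end Groth.Agent.FlatMorDVR
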