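import Mathlib

/-! Idempotents of `C[1/π]` come from `C` when `π` is regular and `C/πC` is reduced. -/

universe u

namespace Groth.Agent.FlatMorDVR

variable {C : Type u} [CommRing C] (π : C)

theorem exists_idem_lift (hreg : IsLeftRegular π) (hred : (Ideal.span {π}).IsRadical)
    {L : Type u} [CommRing L] [Algebra C L] [IsLocalization.Away π L] (e : L)
    (he : IsIdempotentElem e) : ∃ c : C, IsIdempotentElem c ∧ algebraMap C L c = e := by
  classical
  have hinj : Function.Injective (algebraMap C L) :=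
    IsLocalization.injective (M := Submonoid.powers π) L (by
      rintro _ ⟨n, rfl⟩
      exact mem_nonZeroDivisors_iff_right.mpr fun x hx =>
        (hreg.pow n) (by simpa [mul_comm] using hx))
  have hex : ∃ n : ℕ, ∃ c : C, e * algebraMap C L (π ^ n) = algebraMap C L c := by
    obtain ⟨⟨c, ⟨_, n, rfl⟩⟩, hc⟩ := IsLocalization.surj (Submonoid.powers π) e
    exact ⟨n, c, hc⟩
  obtain ⟨c, hc⟩ := Nat.find_spec hex
  have hcc : c * c = π ^ Nat.find hex * c := by
    apply hinj
    rw [map_mul, map_mul, ← hc]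
    calc _ = (e * e) * algebraMap C L (π ^ Nat.find hex) * algebraMap C L (π ^ Nat.find hex) := by ring
      _ = _ := by rw [he.eq]; ring
  rcases Nat.eq_zero_or_pos (Nat.find hex) with h0 | hpos
  · rw [h0, pow_zero, one_mul] at hcc
    rw [h0, pow_zero, map_one, mul_one] at hc
    exact ⟨c, hcc, hc.symm⟩
  · exfalso
    obtain ⟨m, hm⟩ := Nat.exists_eq_add_one.mpr hpos
    have hmem : c ∈ Ideal.span {π} := hred ⟨2, by
      rw [pow_two, hcc, hm, pow_succ']
      exact Ideal.mul_mem_right _ _ (Ideal.mul_mem_right _ _ (Ideal.mem_span_singleton_self π))⟩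
    obtain ⟨c', hc'⟩ := Ideal.mem_span_singleton'.mp hmem
    refine Nat.find_min hex (show m < Nat.find hex by omega) ⟨c', ?_⟩
    have hu : IsUnit (algebraMap C L π) :=
      IsLocalization.Away.algebraMap_isUnit π
    apply hu.mul_left_injective
    simp only
    rw [mul_assoc, ← map_mul, ← pow_succ, ← hm, hc, ← hc', map_mul]

/-- A separation of the open set `D(π)` extends to the whole spectrum. -/
theorem exists_idem_separating (hreg : IsLeftRegular π) (hred : (Ideal.span {π}).IsRadical)
    {A B : Set (PrimeSpectrum C)} (hA : IsOpen A) (hB : IsOpen B) (hdisj : Disjoint A B)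
    (hcov : A ∪ B = (PrimeSpectrum.basicOpen π : Set (PrimeSpectrum C))) :
    ∃ c : C, IsIdempotentElem c ∧ A ⊆ (PrimeSpectrum.basicOpen c : Set (PrimeSpectrum C)) ∧
      B ⊆ (PrimeSpectrum.basicOpen (1 - c) : Set (PrimeSpectrum C)) := by
  let L := Localization.Away π
  let g := PrimeSpectrum.comap (algebraMap C L)
  have hrange : Set.range g = (PrimeSpectrum.basicOpen π : Set (PrimeSpectrum C)) :=
    PrimeSpectrum.localization_away_comap_range L π
  have hcompl : (g ⁻¹' A)ᶜ = g ⁻¹' B := by
    ext p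
    have hp : g p ∈ A ∪ B := hcov ▸ hrange ▸ ⟨p, rfl⟩
    constructor
    · intro hn
      exact hp.resolve_left hn
    · intro hb ha
      exact Set.disjoint_left.mp hdisj ha hb
  have hclopen : IsClopen (g ⁻¹' A) :=
    ⟨⟨by rw [hcompl]; exact hB.preimage (PrimeSpectrum.continuous_comap _)⟩,
      hA.preimage (PrimeSpectrum.continuous_comap _)⟩
  obtain ⟨e, he, hAe⟩ := PrimeSpectrum.isClopen_iff.mp hclopen
  obtain ⟨c, hc, hce⟩ := exists_idem_lift π hreg hred e he
  refine ⟨c, hc, fun q hq => ?_, fun q hq => ?_⟩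
  · obtain ⟨p, rfl⟩ : q ∈ Set.range g := hrange ▸ hcov ▸ Or.inl hq
    have : p ∈ g ⁻¹' A := hq
    rw [hAe] at this
    show c ∉ (g p).asIdeal
    intro h
    apply this
    rw [← hce]
    exact h
  · obtain ⟨p, rfl⟩ : q ∈ Set.range g := hrange ▸ hcov ▸ Or.inr hq
    have h1 : p ∉ g ⁻¹' A := fun ha => Set.disjoint_left.mp hdisj ha hq
    rw [hAe] at h1
    have h2 : c ∈ (g p).asIdeal := by
      show algebraMap C L c ∈ p.asIdeal
      rw [hce]
      by_contra h
      exact h1 h
    show 1 - c ∉ (g p).asIdeal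
    intro h
    exact (g p).isPrime.ne_top (Ideal.eq_top_of_isUnit_mem _
      (add_mem h h2) (by simp))

end Groth.Agent.FlatMorDVR
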