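import Groth.Agent.SmoothLib.StalkCrit
import Groth.Agent.SmoothLib.FibreMap
import Groth.Agent.S9738
import Groth.Agent.S16764

/-! Smoothness and étaleness from infinitesimal neighbourhoods. -/

universe u

open AlgebraicGeometry CategoryTheory Limits

namespace Groth.Agent.FlatMorDVR

set_option backward.isDefEq.respectTransparency false

variable {X S : Scheme.{u}} (f : X ⟶ S)

theorem exists_fromSpecResidueField_factor {Z : Scheme.{u}} (i : Z ⟶ S) [IsPreimmersion i] (z : Z) (y : S)
    (hy : i z = y) : ∃ t : Spec (S.residueField y) ⟶ Z, t ≫ i = S.fromSpecResidueField y := by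
  subst hy
  have hbij : Function.Bijective (i.residueFieldMap z) := by
    refine ⟨RingHom.injective (i.residueFieldMap z).hom, fun c => ?_⟩
    obtain ⟨a, rfl⟩ := IsLocalRing.residue_surjective c
    obtain ⟨b, rfl⟩ := i.stalkMap_surjective z a
    exact ⟨IsLocalRing.residue _ b, congr($(Scheme.residue_residueFieldMap i z) b)⟩
  haveI : IsIso (i.residueFieldMap z) := (ConcreteCategory.isIso_iff_bijective _).mpr hbij
  refine ⟨inv (Spec.map (i.residueFieldMap z)) ≫ Z.fromSpecResidueField z, ?_⟩
  rw [Category.assoc, IsIso.inv_comp_eq, i.SpecMap_residueFieldMap_fromSpecResidueField z]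

theorem flat_stalkMap_of_nbhds [IsLocallyNoetherian S] [LocallyOfFiniteType f] (I : S.IdealSheafData)
    (h : ∀ n : ℕ, Flat (pullback.snd f (I ^ (n + 1)).subschemeι)) (x : X) (hx : f x ∈ I.support) :
    (f.stalkMap x).hom.Flat := by
  haveI : IsLocallyNoetherian X := LocallyOfFiniteType.isLocallyNoetherian f
  exact S9738.result f I h x hx

theorem smoothAt_of_nbhds [IsLocallyNoetherian S] [LocallyOfFinitePresentation f]
    (I : S.IdealSheafData) (h : ∀ n : ℕ, Smooth (pullback.snd f (I ^ (n + 1)).subschemeι)) (x : X)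
    (hx : f x ∈ I.support) : x ∈ f.smoothLocus := by
  have hflat := flat_stalkMap_of_nbhds f I (fun n => haveI := h n; inferInstance) x hx
  obtain ⟨z, hz⟩ : f x ∈ Set.range (I ^ (0 + 1)).subschemeι := by
    rw [Scheme.IdealSheafData.range_subschemeι, zero_add, pow_one]; exact hx
  obtain ⟨x', hx', -⟩ := Scheme.Pullback.exists_preimage_pullback (f := f)
    (g := (I ^ (0 + 1)).subschemeι) x z hz.symm
  subst hx'
  haveI := h 0
  refine SmoothLib.formallySmooth_stalkMap_of_baseChange f _ (IsPullback.of_hasPullback _ _) x' hflat ?_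
  have : x' ∈ (pullback.snd f (I ^ (0 + 1)).subschemeι).smoothLocus := by
    rw [Scheme.Hom.smoothLocus_eq_top]; trivial
  exact this

theorem etaleAt_of_nbhds [IsLocallyNoetherian S] [LocallyOfFinitePresentation f]
    (I : S.IdealSheafData) (h : ∀ n : ℕ, Etale (pullback.snd f (I ^ (n + 1)).subschemeι)) (x : X)
    (hx : f x ∈ I.support) : ∃ U : X.Opens, x ∈ U ∧ Etale (U.ι ≫ f) := by
  have hflat := flat_stalkMap_of_nbhds f I (fun n => haveI := h n; inferInstance) x hx
  obtain ⟨x', hx'⟩ : x ∈ Set.range (f.fiberι (f x)) := by rw [f.range_fiberι]; rfl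
  refine (S16764.result (𝟙 S) f f (Category.comp_id f) x hflat x' hx').mpr ⟨⊤, trivial, ?_⟩
  have H : IsPullback (f.fiberι (f x)) (CohIII.fiberMapOver f f (𝟙 S) (Category.comp_id f) (f x)) f
      ((𝟙 S : S ⟶ S).fiberι (f x)) := by
    refine IsPullback.of_bot (v₂₁ := (𝟙 S : S ⟶ S).fiberToSpecResidueField (f x)) (v₂₂ := 𝟙 S)
      (h₃₁ := S.fromSpecResidueField (f x)) ?_ (pullback.lift_fst _ _ _).symm (IsPullback.of_hasPullback _ _)
    rw [show CohIII.fiberMapOver f f (𝟙 S) (Category.comp_id f) (f x) ≫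
      (𝟙 S : S ⟶ S).fiberToSpecResidueField (f x) = f.fiberToSpecResidueField (f x) from
      (pullback.lift_snd _ _ _).trans (Category.comp_id _), Category.comp_id]
    exact IsPullback.of_hasPullback _ _
  obtain ⟨z, hz⟩ : f x ∈ Set.range (I ^ (0 + 1)).subschemeι := by
    rw [Scheme.IdealSheafData.range_subschemeι, zero_add, pow_one]; exact hx
  obtain ⟨t, ht⟩ : ∃ t : Spec (S.residueField (f x)) ⟶ (I ^ (0 + 1)).subscheme,
      t ≫ (I ^ (0 + 1)).subschemeι = S.fromSpecResidueField (f x) := by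
    exact exists_fromSpecResidueField_factor _ z _ hz
  let j : (𝟙 S : S ⟶ S).fiber (f x) ⟶ (I ^ (0 + 1)).subscheme :=
    (𝟙 S : S ⟶ S).fiberToSpecResidueField (f x) ≫ t
  have hj : j ≫ (I ^ (0 + 1)).subschemeι = (𝟙 S : S ⟶ S).fiberι (f x) := by
    rw [Category.assoc, ht]
    exact (pullback.condition).symm.trans (Category.comp_id _)
  let l : f.fiber (f x) ⟶ pullback f (I ^ (0 + 1)).subschemeι :=
    pullback.lift (f.fiberι (f x)) (CohIII.fiberMapOver f f (𝟙 S) (Category.comp_id f) (f x) ≫ j)
      (by rw [Category.assoc, hj]; exact H.w)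
  have hl : IsPullback l (CohIII.fiberMapOver f f (𝟙 S) (Category.comp_id f) (f x))
      (pullback.snd f (I ^ (0 + 1)).subschemeι) j := by
    refine IsPullback.of_right ?_ (pullback.lift_snd _ _ _) (IsPullback.of_hasPullback _ _)
    rw [pullback.lift_fst, hj]
    exact H
  haveI := MorphismProperty.of_isPullback (P := @Etale) hl (h 0)
  infer_instance

end Groth.Agent.FlatMorDVR
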