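import Mathlib

/-! The stalk map of a finite morphism at a lonely point of its fibre is finite. -/

universe u

open AlgebraicGeometry CategoryTheory Limits TopologicalSpace

namespace Groth.Agent.FlatMorDVR

set_option backward.isDefEq.respectTransparency false

theorem exists_mul_eq_algebraMap_not_mem {A B : Type u} [CommRing A] [CommRing B] [Algebra A B]
    [Algebra.IsIntegral A B] (p : Ideal A) [p.IsPrime] (q : Ideal B)
    (huniq : ∀ Q : Ideal B, Q.IsPrime → Q.comap (algebraMap A B) = p → Q = q) (s : B) (hs : s ∉ q) :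
    ∃ (c : B) (t : A), t ∉ p ∧ s * c = algebraMap A B t := by
  by_contra h
  push Not at h
  have hle : (Ideal.span {s}).comap (algebraMap A B) ≤ p := by
    intro t ht
    by_contra htp
    obtain ⟨c, hc⟩ := Ideal.mem_span_singleton'.mp ht
    exact h c t htp (by rw [mul_comm, hc])
  obtain ⟨Q, hQ, hQp, hQc⟩ := Ideal.exists_ideal_over_prime_of_isIntegral p (Ideal.span {s}) hle
  exact hs (huniq Q hQp hQc ▸ hQ (Ideal.mem_span_singleton_self s))

theorem finite_localization_of_unique_prime {A B L₁ L₂ : Type u} [CommRing A] [CommRing B]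
    [Algebra A B] [Module.Finite A B] [CommRing L₁] [CommRing L₂] [Algebra A L₁] [Algebra B L₂]
    (p : Ideal A) [p.IsPrime] (q : Ideal B) [q.IsPrime] [IsLocalization.AtPrime L₁ p]
    [IsLocalization.AtPrime L₂ q]
    (huniq : ∀ Q : Ideal B, Q.IsPrime → Q.comap (algebraMap A B) = p → Q = q)
    (φ : L₁ →+* L₂) (hφ : φ.comp (algebraMap A L₁) = (algebraMap B L₂).comp (algebraMap A B)) :
    φ.Finite := by
  classical
  letI := φ.toAlgebra
  obtain ⟨S, hS⟩ := (Module.Finite.fg_top : (⊤ : Submodule A B).FG)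
  refine ⟨⟨S.image (algebraMap B L₂), ?_⟩⟩
  refine top_unique fun z _ => ?_
  rw [Finset.coe_image]
  set M := Submodule.span L₁ (algebraMap B L₂ '' (S : Set B))
  have hφ' : ∀ a, φ (algebraMap A L₁ a) = algebraMap B L₂ (algebraMap A B a) := fun a =>
    RingHom.congr_fun hφ a
  have hB : ∀ b : B, algebraMap B L₂ b ∈ M := by
    intro b
    have hb : b ∈ Submodule.span A (S : Set B) := by rw [hS]; trivial
    induction hb using Submodule.span_induction with
    | mem x hx => exact Submodule.subset_span ⟨x, hx, rfl⟩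
    | zero => rw [map_zero]; exact zero_mem _
    | add x y _ _ hx hy => rw [map_add]; exact add_mem hx hy
    | smul a x _ hx =>
      rw [Algebra.smul_def, map_mul, ← hφ']
      exact M.smul_mem (algebraMap A L₁ a) hx
  obtain ⟨⟨b, s, hs⟩, hbs⟩ := IsLocalization.surj q.primeCompl z
  obtain ⟨c, t, ht, hct⟩ := exists_mul_eq_algebraMap_not_mem p q huniq s hs
  have hu : IsUnit (algebraMap A L₁ t) :=
    IsLocalization.map_units (M := p.primeCompl) L₁ (⟨t, ht⟩ : p.primeCompl)
  obtain ⟨v, hv⟩ := hu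
  have key : algebraMap B L₂ (b * c) = φ (algebraMap A L₁ t) * z := by
    dsimp only at hbs
    rw [map_mul, ← hbs, hφ', ← hct, map_mul]
    ring
  have : z = (↑v⁻¹ : L₁) • algebraMap B L₂ (b * c) := by
    rw [key, Algebra.smul_def, ← hv, RingHom.algebraMap_toAlgebra, ← mul_assoc, ← map_mul,
      Units.inv_mul, map_one, one_mul]
  rw [this]
  exact M.smul_mem _ (hB _)

theorem stalkMap_finite {X Y : Scheme.{u}} (π : X ⟶ Y) [IsFinite π] (x : X)
    (hx : ∀ x' : ↑X, π x' = π x → x' = x) : (π.stalkMap x).hom.Finite := by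
  obtain ⟨U, hU, hxU, -⟩ := exists_isAffineOpen_mem_and_subset (x := π x) (U := ⊤) trivial
  have hV : IsAffineOpen (π ⁻¹ᵁ U) := hU.preimage π
  algebraize [(π.app U).hom]
  haveI : Module.Finite Γ(Y, U) Γ(X, π ⁻¹ᵁ U) := RingHom.finite_algebraMap.mp (π.finite_app U hU)
  letI := TopCat.Presheaf.algebra_section_stalk Y.presheaf (⟨π x, hxU⟩ : U)
  letI := TopCat.Presheaf.algebra_section_stalk X.presheaf (⟨x, hxU⟩ : (π ⁻¹ᵁ U : X.Opens))
  haveI := hU.isLocalization_stalk ⟨π x, hxU⟩
  haveI := hV.isLocalization_stalk ⟨x, hxU⟩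
  refine finite_localization_of_unique_prime (hU.primeIdealOf ⟨π x, hxU⟩).asIdeal
    (hV.primeIdealOf ⟨x, hxU⟩).asIdeal ?_ (π.stalkMap x).hom ?_
  · intro Q hQ hQc
    have hsq := IsAffineOpen.SpecMap_appLE_fromSpec π hU hV le_rfl
    rw [← Scheme.Hom.app_eq_appLE] at hsq
    let Q₀ : Spec Γ(X, π ⁻¹ᵁ U) := (⟨Q, hQ⟩ : PrimeSpectrum _)
    have h1 : π (hV.fromSpec Q₀) = π x := by
      rw [← Scheme.Hom.comp_apply, ← hsq, Scheme.Hom.comp_apply,
        show Spec.map (π.app U) Q₀ = hU.primeIdealOf ⟨π x, hxU⟩ from PrimeSpectrum.ext hQc,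
        hU.fromSpec_primeIdealOf]
    have h2 : Q₀ = hV.primeIdealOf ⟨x, hxU⟩ :=
      hV.fromSpec.isOpenEmbedding.injective (by rw [hx _ h1, hV.fromSpec_primeIdealOf])
    exact congrArg PrimeSpectrum.asIdeal h2
  · exact congrArg CommRingCat.Hom.hom (Scheme.Hom.germ_stalkMap π U x hxU)

end Groth.Agent.FlatMorDVR
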