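import Groth.Agent.H8Lim.UniversallyOpen

/-! Universal openness detected on the generic linear form. -/

universe u

open AlgebraicGeometry CategoryTheory Limits

namespace Groth.Agent.FlatMorDVR

set_option backward.isDefEq.respectTransparency false

section

attribute [local instance] MvPolynomial.algebraMvPolynomial

theorem isPullback_mvPolynomial (A B : Type u) [CommRing A] [CommRing B] [Algebra A B] (τ : Type u) :
    IsPullback (Spec.map (CommRingCat.ofHom (MvPolynomial.C : B →+* MvPolynomial τ B)))
      (Spec.map (CommRingCat.ofHom (MvPolynomial.map (σ := τ) (algebraMap A B))))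
      (Spec.map (CommRingCat.ofHom (algebraMap A B)))
      (Spec.map (CommRingCat.ofHom (MvPolynomial.C : A →+* MvPolynomial τ A))) :=
  isPullback_SpecMap_of_isPushout _ _ _ _
    (CommRingCat.isPushout_of_isPushout A B (MvPolynomial τ A) (MvPolynomial τ B))

end

variable {A B : Type u} [CommRing A] [CommRing B] [Algebra A B]

theorem isOpenMap_map_of_universallyOpen (τ : Type u)
    [UniversallyOpen (Spec.map (CommRingCat.ofHom (algebraMap A B)))] :
    IsOpenMap (PrimeSpectrum.comap (MvPolynomial.map (σ := τ) (algebraMap A B))) := by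
  haveI : UniversallyOpen (Spec.map (CommRingCat.ofHom (MvPolynomial.map (σ := τ) (algebraMap A B)))) :=
    MorphismProperty.of_isPullback (P := @UniversallyOpen) (isPullback_mvPolynomial A B τ) inferInstance
  exact (Spec.map (CommRingCat.ofHom (MvPolynomial.map (σ := τ) (algebraMap A B)))).isOpenMap

theorem exists_linear_form {d : ℕ} (b : Fin d → B) (hb : Submodule.span A (Set.range b) = ⊤)
    {τ : Type u} (g : MvPolynomial τ B) :
    ∃ a : Fin d → MvPolynomial τ A,
      g = ∑ i, MvPolynomial.map (algebraMap A B) (a i) * MvPolynomial.C (b i) := by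
  classical
  induction g using MvPolynomial.induction_on' with
  | monomial m c =>
    have hc : c ∈ Submodule.span A (Set.range b) := by rw [hb]; trivial
    obtain ⟨r, rfl⟩ := (Submodule.mem_span_range_iff_exists_fun A).mp hc
    refine ⟨fun i => MvPolynomial.monomial m (r i), ?_⟩
    rw [map_sum]
    refine Finset.sum_congr rfl fun i _ => ?_
    rw [MvPolynomial.map_monomial, mul_comm, MvPolynomial.C_mul_monomial, Algebra.smul_def, mul_comm]
  | add p q hp hq =>
    obtain ⟨a, rfl⟩ := hp
    obtain ⟨a', rfl⟩ := hq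
    exact ⟨a + a', by simp [add_mul, Finset.sum_add_distrib]⟩

theorem image_basicOpen_eq {d : ℕ} (b : Fin d → B) {τ : Type u} (a : Fin d → MvPolynomial τ A) :
    PrimeSpectrum.comap (MvPolynomial.map (σ := τ) (algebraMap A B)) ''
        (PrimeSpectrum.basicOpen (∑ i, MvPolynomial.map (algebraMap A B) (a i) * MvPolynomial.C (b i)) :
          Set (PrimeSpectrum (MvPolynomial τ B))) =
      PrimeSpectrum.comap (MvPolynomial.eval₂Hom (MvPolynomial.C : A →+* MvPolynomial τ A) a) ⁻¹'
        (PrimeSpectrum.comap (MvPolynomial.map (σ := Fin d) (algebraMap A B)) ''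
          (PrimeSpectrum.basicOpen (∑ i : Fin d, MvPolynomial.X i * MvPolynomial.C (b i)) :
            Set (PrimeSpectrum (MvPolynomial (Fin d) B)))) := by
  let εA := MvPolynomial.eval₂Hom (MvPolynomial.C : A →+* MvPolynomial τ A) a
  let εB := MvPolynomial.eval₂Hom (MvPolynomial.C : B →+* MvPolynomial τ B)
    (fun i => MvPolynomial.map (algebraMap A B) (a i))
  have hcomm : εB.comp (MvPolynomial.map (σ := Fin d) (algebraMap A B)) =
      (MvPolynomial.map (σ := τ) (algebraMap A B)).comp εA := by
    refine MvPolynomial.ringHom_ext (fun r => ?_) (fun i => ?_) <;> simp [εA, εB]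
  have hh : εB (∑ i : Fin d, MvPolynomial.X i * MvPolynomial.C (b i)) =
      ∑ i, MvPolynomial.map (algebraMap A B) (a i) * MvPolynomial.C (b i) := by simp [εB]
  rw [← hh]
  ext p
  constructor
  · rintro ⟨q, hq, rfl⟩
    refine ⟨PrimeSpectrum.comap εB q, hq, ?_⟩
    rw [← PrimeSpectrum.comap_comp_apply, hcomm, PrimeSpectrum.comap_comp_apply]
  · rintro ⟨q, hq, hqp⟩
    let mτ := Spec.map (CommRingCat.ofHom (MvPolynomial.map (σ := τ) (algebraMap A B)))
    let sA := Spec.map (CommRingCat.ofHom εA)
    let sB := Spec.map (CommRingCat.ofHom εB)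
    let md' := Spec.map (CommRingCat.ofHom (MvPolynomial.map (σ := Fin d) (algebraMap A B)))
    let cA := Spec.map (CommRingCat.ofHom (MvPolynomial.C : A →+* MvPolynomial (Fin d) A))
    let cB := Spec.map (CommRingCat.ofHom (MvPolynomial.C : B →+* MvPolynomial (Fin d) B))
    have hd : IsPullback cB md' (Spec.map (CommRingCat.ofHom (algebraMap A B))) cA := by
      letI := MvPolynomial.algebraMvPolynomial (σ := Fin d) (R := A) (S := B)
      exact isPullback_SpecMap_of_isPushout _ _ _ _
        (CommRingCat.isPushout_of_isPushout A B (MvPolynomial (Fin d) A) (MvPolynomial (Fin d) B))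
    have hsq : IsPullback sB mτ md' sA := by
      refine IsPullback.of_right ?_ ?_ hd
      · have e1 : sB ≫ cB = Spec.map (CommRingCat.ofHom (MvPolynomial.C : B →+* MvPolynomial τ B)) := by
          rw [← Spec.map_comp, ← CommRingCat.ofHom_comp, MvPolynomial.eval₂Hom_comp_C]
        have e2 : sA ≫ cA = Spec.map (CommRingCat.ofHom (MvPolynomial.C : A →+* MvPolynomial τ A)) := by
          rw [← Spec.map_comp, ← CommRingCat.ofHom_comp, MvPolynomial.eval₂Hom_comp_C]
        rw [e1, e2]
        exact isPullback_mvPolynomial A B τ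
      · rw [← Spec.map_comp, ← Spec.map_comp, ← CommRingCat.ofHom_comp, ← CommRingCat.ofHom_comp, hcomm]
    obtain ⟨t, ht1, ht2⟩ := Scheme.Pullback.exists_preimage_pullback (f := md') (g := sA) q p hqp
    have k1 : sB (hsq.isoPullback.inv t) = q := by
      rw [← Scheme.Hom.comp_apply, hsq.isoPullback_inv_fst, ht1]
    have k2 : mτ (hsq.isoPullback.inv t) = p := by
      rw [← Scheme.Hom.comp_apply, hsq.isoPullback_inv_snd, ht2]
    refine ⟨hsq.isoPullback.inv t, ?_, k2⟩
    show εB _ ∉ (hsq.isoPullback.inv t).asIdeal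
    intro hmem
    apply hq
    rw [← k1]
    exact hmem

theorem universallyOpen_of_isOpen_image {d : ℕ} (b : Fin d → B)
    (hb : Submodule.span A (Set.range b) = ⊤)
    (h : IsOpen (PrimeSpectrum.comap (MvPolynomial.map (σ := Fin d) (algebraMap A B)) ''
        (PrimeSpectrum.basicOpen (∑ i : Fin d, MvPolynomial.X i * MvPolynomial.C (b i)) :
          Set (PrimeSpectrum (MvPolynomial (Fin d) B))))) :
    UniversallyOpen (Spec.map (CommRingCat.ofHom (algebraMap A B))) := by
  refine H8Lim.universallyOpen_of_isOpenMap_affineSpace _ fun n _ => ?_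
  let τ := ULift.{u} (Fin n)
  let f := Spec.map (CommRingCat.ofHom (algebraMap A B))
  have hm : IsOpenMap (Spec.map (CommRingCat.ofHom (MvPolynomial.map (σ := τ) (algebraMap A B)))) := by
    intro W hW
    obtain ⟨s, hs, rfl⟩ := PrimeSpectrum.isBasis_basic_opens.open_eq_sUnion hW
    rw [Set.sUnion_eq_biUnion, Set.image_iUnion₂]
    refine isOpen_biUnion fun U hU => ?_
    obtain ⟨_, ⟨g, rfl⟩, rfl⟩ := hs hU
    obtain ⟨a, rfl⟩ := exists_linear_form b hb g
    have h' := h.preimage
      (PrimeSpectrum.continuous_comap (MvPolynomial.eval₂Hom (MvPolynomial.C : A →+* MvPolynomial τ A) a))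
    rw [← image_basicOpen_eq b a] at h'
    exact h' 
  let e := AffineSpace.SpecIso τ (CommRingCat.of A)
  have sq : IsPullback (Spec.map (CommRingCat.ofHom (MvPolynomial.C : B →+* MvPolynomial τ B)))
      (Spec.map (CommRingCat.ofHom (MvPolynomial.map (σ := τ) (algebraMap A B))) ≫ e.inv) f
      (AffineSpace τ (Spec (CommRingCat.of A)) ↘ Spec (CommRingCat.of A)) := by
    refine (isPullback_mvPolynomial A B τ).of_iso (Iso.refl _) (Iso.refl _) e.symm (Iso.refl _)
      (by simp) (by simp) (by simp [f]) ?_
    simp only [Iso.symm_hom, Iso.refl_hom, Category.comp_id, e, AffineSpace.SpecIso_inv_over]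
  have e1 : pullback.snd f (AffineSpace τ (Spec (CommRingCat.of A)) ↘ Spec (CommRingCat.of A)) =
      sq.isoPullback.inv ≫ Spec.map (CommRingCat.ofHom (MvPolynomial.map (σ := τ) (algebraMap A B))) ≫ e.inv :=
    (sq.isoPullback_inv_snd).symm
  rw [e1, Scheme.Hom.comp_base, Scheme.Hom.comp_base, TopCat.coe_comp, TopCat.coe_comp]
  exact (e.inv.homeomorph.isOpenMap.comp hm).comp sq.isoPullback.inv.homeomorph.isOpenMap

theorem universallyOpen_iff_isOpen_image {d : ℕ} (b : Fin d → B)
    (hb : Submodule.span A (Set.range b) = ⊤) :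
    UniversallyOpen (Spec.map (CommRingCat.ofHom (algebraMap A B))) ↔
      IsOpen (PrimeSpectrum.comap (MvPolynomial.map (σ := Fin d) (algebraMap A B)) ''
        (PrimeSpectrum.basicOpen (∑ i : Fin d, MvPolynomial.X i * MvPolynomial.C (b i)) :
          Set (PrimeSpectrum (MvPolynomial (Fin d) B)))) := by
  refine ⟨fun h => ?_, universallyOpen_of_isOpen_image b hb⟩
  let e : ULift.{u} (Fin d) ≃ Fin d := Equiv.ulift
  let rA := (MvPolynomial.renameEquiv A e).toRingEquiv
  let rB := (MvPolynomial.renameEquiv B e).toRingEquiv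
  have hnat : (MvPolynomial.map (σ := Fin d) (algebraMap A B)).comp rA.toRingHom =
      rB.toRingHom.comp (MvPolynomial.map (σ := ULift.{u} (Fin d)) (algebraMap A B)) := by
    refine MvPolynomial.ringHom_ext (fun r => ?_) (fun i => ?_) <;> simp [rA, rB]
  have ho := isOpenMap_map_of_universallyOpen (A := A) (B := B) (ULift.{u} (Fin d))
  have e3 : PrimeSpectrum.comap (MvPolynomial.map (σ := Fin d) (algebraMap A B)) =
      (PrimeSpectrum.homeomorphOfRingEquiv rA) ∘
        PrimeSpectrum.comap (MvPolynomial.map (σ := ULift.{u} (Fin d)) (algebraMap A B)) ∘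
        (PrimeSpectrum.homeomorphOfRingEquiv rB).symm := by
    funext q
    apply (PrimeSpectrum.homeomorphOfRingEquiv rA).symm.injective
    simp only [Function.comp_apply, Homeomorph.symm_apply_apply]
    show PrimeSpectrum.comap rA.toRingHom _ = PrimeSpectrum.comap _ (PrimeSpectrum.comap rB.toRingHom q)
    rw [← PrimeSpectrum.comap_comp_apply, hnat, PrimeSpectrum.comap_comp_apply]
  rw [e3]
  exact ((PrimeSpectrum.homeomorphOfRingEquiv rA).isOpenMap.comp
    (ho.comp (PrimeSpectrum.homeomorphOfRingEquiv rB).symm.isOpenMap)) _ (PrimeSpectrum.basicOpen _).isOpen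

end Groth.Agent.FlatMorDVR
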